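import Groth.Agent.FibIrr.Core

/-!
# Irreducibility from irreducible fibres of constant dimension
-/

universe u

set_option autoImplicit false
set_option linter.style.haveILetI false
set_option backward.isDefEq.respectTransparency false

open CategoryTheory AlgebraicGeometry Topology TopologicalSpace

namespace Groth.Agent.FibIrr

open Unibranch FlatDim

variable {k : Type u} [Field k] {X Y : Scheme.{u}} (qX : X ⟶ Spec (CommRingCat.of k))
  (qY : Y ⟶ Spec (CommRingCat.of k)) [LocallyOfFiniteType qX] [LocallyOfFiniteType qY] {f : X ⟶ Y} {d : ℕ}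
  [CompactSpace X] [IrreducibleSpace Y]

theorem closure_eq_univ : closure ({genericPoint ↥Y} : Set Y) = Set.univ :=
  genericPoint_spec ↥Y

include qX qY in
theorem dense_image_iff {ξ : X} :
    Dense (f '' closure {ξ}) ↔ f ξ = genericPoint ↥Y := by
  rw [dense_iff_closure_eq, closure_image_closure_singleton]
  exact ⟨fun e => eq_of_closure_eq (e.trans closure_eq_univ.symm), fun e => by rw [e, closure_eq_univ]⟩

include qX qY in
/-- The dominant component is unique; each component has dimension `d` plus that of its image. -/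
theorem components (hf : f ≫ qY = qX) (h : Fibres f d) :
    (∃! Z : Set X, Z ∈ irreducibleComponents (X : Type u) ∧ Dense (f '' Z)) ∧
      ∀ Z ∈ irreducibleComponents (X : Type u),
        (∀ y : Y, IsClosed ({y} : Set Y) → (f ⁻¹' {y} ∩ Z).Nonempty → f ⁻¹' {y} ⊆ Z) ∧
          topologicalKrullDim ↥Z = (d : WithBot ℕ∞) + topologicalKrullDim ↥(closure (f '' Z)) := by
  obtain ⟨ξ, hξ, hξη⟩ := exists_dominant qX qY hf h
  refine ⟨⟨closure {ξ}, ⟨hξ.mem_irreducibleComponents, (dense_image_iff qX qY).2 hξη⟩, ?_⟩, ?_⟩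
  · rintro Z ⟨hZ, hd⟩
    obtain ⟨ζ, hζ, rfl⟩ := exists_isMaxPt hZ
    rw [dominant_unique qX qY hf h hζ hξ ((dense_image_iff qX qY).1 hd) hξη]
  · intro Z hZ
    obtain ⟨ζ, hζ, rfl⟩ := exists_isMaxPt hZ
    refine ⟨?_, ?_⟩
    · rintro y hy ⟨x, hxy, hx⟩ w hw
      simp only [Set.mem_preimage, Set.mem_singleton_iff] at hxy hw
      refine (fibre_subset qX qY hf h hζ (specializes_iff_mem_closure.2 hx) ?_ (hw.trans hxy.symm)).mem_closure
      rw [hxy]; exact hy
    · rw [closure_image_closure_singleton, (pdim_spec qX ζ).2.2, (pdim_spec qY (f ζ)).2.2,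
        (comp_dim qX qY hf h hζ).1]
      push_cast
      rfl

include qX qY in
/-- A unique maximal point: irreducible, of the expected dimension. -/
theorem of_unique (hf : f ≫ qY = qX) (h : Fibres f d)
    (huniq : ∀ ζ : X, IsMaxPt ζ → f ζ = genericPoint ↥Y → ∀ x : X, ζ ⤳ x) :
    IrreducibleSpace X ∧ topologicalKrullDim X = (d : WithBot ℕ∞) + topologicalKrullDim Y := by
  obtain ⟨ξ, hξ, hξη⟩ := exists_dominant qX qY hf h
  have huniv : closure ({ξ} : Set X) = Set.univ :=
    Set.eq_univ_iff_forall.2 fun x => (huniq ξ hξ hξη x).mem_closure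
  refine ⟨?_, ?_⟩
  · haveI : PreirreducibleSpace X := ⟨huniv ▸ isIrreducible_singleton.closure.2⟩
    exact { toNonempty := ⟨ξ⟩ }
  · rw [dim_univ_eq (X := X), dim_univ_eq (X := Y), ← huniv, ← closure_eq_univ (Y := Y), ← hξη,
      (pdim_spec qX ξ).2.2, (pdim_spec qY (f ξ)).2.2, (comp_dim qX qY hf h hξ).1]
    push_cast
    rfl

include qX qY in
/-- A closed map. -/
theorem of_isClosedMap (hf : f ≫ qY = qX) (h : Fibres f d) (hcl : IsClosedMap f) :
    IrreducibleSpace X ∧ topologicalKrullDim X = (d : WithBot ℕ∞) + topologicalKrullDim Y := by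
  haveI : LocallyOfFiniteType (f ≫ qY) := hf ▸ inferInstance
  haveI : LocallyOfFiniteType f := locallyOfFiniteType_of_comp f qY
  haveI : JacobsonSpace X := LocallyOfFiniteType.jacobsonSpace qX
  haveI : JacobsonSpace Y := LocallyOfFiniteType.jacobsonSpace qY
  refine of_unique qX qY hf h fun ξ hξ hξη => ?_
  have huniv : f '' closure {ξ} = Set.univ := by
    rw [← (hcl _ isClosed_closure).closure_eq, closure_image_closure_singleton, hξη, closure_eq_univ]
  have hsub : closedPoints (X : Type u) ⊆ closure {ξ} := fun x hx => by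
    have hy : IsClosed ({f x} : Set Y) := f.closePoints_subset_preimage_closedPoints hx
    obtain ⟨x', hx', e⟩ := huniv.ge (Set.mem_univ (f x))
    exact (fibre_subset qX qY hf h hξ (specializes_iff_mem_closure.2 hx') (by rw [e]; exact hy) e.symm).mem_closure
  intro x
  exact specializes_iff_mem_closure.2
    (closure_minimal hsub isClosed_closure (by rw [closure_closedPoints]; trivial))

include qX qY in
/-- All components of the same dimension. -/
theorem of_equidim (hf : f ≫ qY = qX) (h : Fibres f d)
    (hpure : ∀ Z ∈ irreducibleComponents (X : Type u), topologicalKrullDim Z = topologicalKrullDim X) :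
    IrreducibleSpace X ∧ topologicalKrullDim X = (d : WithBot ℕ∞) + topologicalKrullDim Y := by
  refine of_unique qX qY hf h fun ξ hξ hξη x => ?_
  obtain ⟨ζ, hζ, hζx⟩ := exists_isMaxPt_specializes x
  have heq : WeilCoh.pdim X ζ = WeilCoh.pdim X ξ := by
    have := (hpure _ hζ.mem_irreducibleComponents).trans (hpure _ hξ.mem_irreducibleComponents).symm
    rw [(pdim_spec qX ζ).2.2, (pdim_spec qX ξ).2.2] at this
    exact_mod_cast this
  have hη : f ζ = genericPoint ↥Y := by
    by_contra hne
    have := pdim_strict qY (genericPoint_specializes (f ζ)) hne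
    rw [(comp_dim qX qY hf h hζ).1, (comp_dim qX qY hf h hξ).1, hξη] at heq
    omega
  exact dominant_unique qX qY hf h hζ hξ hη hξη ▸ hζx

end Groth.Agent.FibIrr
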