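import Groth.Agent.FlatDim.DimAdd
import Groth.Agent.FlatDim.BaseChange
import Groth.Agent.Unibranch.FibreDims

/-!
# Morphisms of algebraic schemes with irreducible closed fibres of constant dimension
-/

universe u

set_option autoImplicit false
set_option linter.style.haveILetI false
set_option backward.isDefEq.respectTransparency false

open CategoryTheory AlgebraicGeometry Topology TopologicalSpace

namespace Groth.Agent.FibIrr

open Unibranch FlatDim

variable {k : Type u} [Field k] {X Y : Scheme.{u}}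

/-- Closed points have dimension zero. -/
theorem pdim_eq_zero (q : Y ⟶ Spec (CommRingCat.of k)) [LocallyOfFiniteType q] {y : Y}
    (hy : IsClosed ({y} : Set Y)) : WeilCoh.pdim Y y = 0 := by
  obtain ⟨c, hc, hcc⟩ := (pdim_spec q y).2.1
  by_contra hne
  have hmem : ∀ i, c i = y := fun i => by
    have := (hc i).1
    rwa [hy.closure_eq, Set.mem_singleton_iff] at this
  exact (hcc ⟨0, Nat.pos_of_ne_zero hne⟩).2 ((hmem _).trans (hmem _).symm)

variable (qX : X ⟶ Spec (CommRingCat.of k)) (qY : Y ⟶ Spec (CommRingCat.of k))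
  [LocallyOfFiniteType qX] [LocallyOfFiniteType qY] (f : X ⟶ Y)

/-- The hypothesis on closed fibres: irreducible of dimension `d`. -/
def Fibres (d : ℕ) : Prop :=
  ∀ y : Y, IsClosed ({y} : Set Y) →
    IsIrreducible (f ⁻¹' {y}) ∧ topologicalKrullDim ↥(f ⁻¹' {y}) = (d : WithBot ℕ∞)

variable {f} {d : ℕ}

include qX in
/-- The generic point of a closed fibre. -/
theorem fibre_generic (h : Fibres f d) {y : Y} (hy : IsClosed ({y} : Set Y)) :
    ∃ φ : X, f φ = y ∧ WeilCoh.pdim X φ = d ∧ ∀ w : X, f w = y → φ ⤳ w := by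
  have hFc : IsClosed (f ⁻¹' ({y} : Set Y)) := hy.preimage f.continuous
  obtain ⟨φ, hφ⟩ := QuasiSober.sober (h y hy).1 hFc
  have hle := (dim_le_iff qX hFc.isLocallyClosed).1 (h y hy).2.le
  obtain ⟨w, hw, hdw⟩ := (natCast_le_dim_iff qX hFc.isLocallyClosed).1 (h y hy).2.ge
  refine ⟨φ, hφ.mem, le_antisymm (hle φ hφ.mem) (hdw.trans (pdim_mono qX (hφ.specializes hw))), ?_⟩
  exact fun w hw => hφ.specializes hw

include qX qY in
/-- For a maximal point `ξ`, chains in the generic fibre are bounded by those in a closed fibre. -/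
theorem comp_le (hf : f ≫ qY = qX) {ξ x : X} (hx : ξ ⤳ x) (e δ : ℕ)
    (hδ : HasChain f (closure {ξ}) (f ξ) δ)
    (he : ∀ w : X, ξ ⤳ w → f w = f x → WeilCoh.pdim X w ≤ e) : δ ≤ e := by
  haveI : LocallyOfFiniteType (f ≫ qY) := hf ▸ inferInstance
  haveI : LocallyOfFiniteType f := locallyOfFiniteType_of_comp f qY
  refine hδ.le (chainsLE_of_specializes f hx (U := ⊤) trivial fun j c hc hcc => ?_)
  refine le_trans ?_ (he (c 0) (specializes_iff_mem_closure.2 (hc 0).1.2) (hc 0).2)
  exact le_of_chainsLE (f := qX) ⟨c, fun i => ⟨chain_mem_closure hcc i, Subsingleton.elim _ _⟩, hcc⟩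
    (pdim_spec qX (c 0)).1

variable [CompactSpace X]

include qX in
/-- A maximal point has an open neighbourhood of points whose only maximal generisation it is. -/
theorem exists_open_unique {ξ : X} (hξ : IsMaxPt ξ) :
    ∃ U : Set X, IsOpen U ∧ ξ ∈ U ∧ ∀ x ∈ U, ∀ ζ : X, IsMaxPt ζ → ζ ⤳ x → ζ = ξ := by
  haveI := LocallyOfFiniteType.isLocallyNoetherian qX
  haveI : AlgebraicGeometry.IsNoetherian X := {}
  haveI : NoetherianSpace X := inferInstance
  have hfin : (irreducibleComponents (X : Type u) \ {closure {ξ}}).Finite :=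
    NoetherianSpace.finite_irreducibleComponents.sdiff
  refine ⟨(⋃₀ (irreducibleComponents (X : Type u) \ {closure {ξ}}))ᶜ, ?_, ?_, ?_⟩
  · rw [Set.sUnion_eq_biUnion]
    exact (hfin.isClosed_biUnion fun Z hZ => isClosed_of_mem_irreducibleComponents _ hZ.1).isOpen_compl
  · rintro ⟨Z, ⟨hZ, hne⟩, hξZ⟩
    obtain ⟨ζ, -, rfl⟩ := exists_isMaxPt hZ
    exact hne (by rw [Set.mem_singleton_iff, hξ ζ (specializes_iff_mem_closure.2 hξZ)])
  · intro x hx ζ hζ hζx
    by_contra hne
    exact hx ⟨closure {ζ}, ⟨hζ.mem_irreducibleComponents, fun he => hne (eq_of_closure_eq he)⟩,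
      hζx.mem_closure⟩

include qX qY in
/-- Every component has dimension `d` plus that of the closure of its image. -/
theorem comp_dim (hf : f ≫ qY = qX) (h : Fibres f d) {ξ : X} (hξ : IsMaxPt ξ) :
    WeilCoh.pdim X ξ = d + WeilCoh.pdim Y (f ξ) ∧
      HasChain f (closure {ξ}) (f ξ) d := by
  haveI : LocallyOfFiniteType (f ≫ qY) := hf ▸ inferInstance
  haveI : LocallyOfFiniteType f := locallyOfFiniteType_of_comp f qY
  haveI : JacobsonSpace X := LocallyOfFiniteType.jacobsonSpace qX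
  haveI : JacobsonSpace Y := LocallyOfFiniteType.jacobsonSpace qY
  obtain ⟨δ, h1, h2, hδ⟩ := exists_pdim_eq f qY ξ
  obtain ⟨U, hU, hξU, huniq⟩ := exists_open_unique qX hξ
  have hξf : IsFibMax f ξ := fun y hy _ => hξ y hy
  let O : Set X := {x | FlatMor.fibreDimAt f x ≤ (δ : WithBot ℕ∞)}
  have hO : IsOpen O := isOpen_fibreDimAt_le f δ
  obtain ⟨x, hx, hxc⟩ := nonempty_inter_closedPoints (X := X) (Z := U ∩ O)
    ⟨ξ, hξU, (fibreDimAt_eq f hξf h1 h2).le⟩ (hU.inter hO).isLocallyClosed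
  have hy : IsClosed ({f x} : Set Y) := f.closePoints_subset_preimage_closedPoints hxc
  obtain ⟨φ, hφy, hφd, hφ⟩ := fibre_generic qX h hy
  obtain ⟨ζ, hζ, hζx⟩ := exists_isMaxPt_specializes x
  have hξx : ξ ⤳ x := huniq x hx.1 ζ hζ hζx ▸ hζx
  have hle : δ ≤ d := comp_le qX qY hf hξx d δ h2 fun w _ hw =>
    hφd ▸ pdim_mono qX (hφ w hw)
  obtain ⟨δ', -, h2', hδ'⟩ := exists_pdim_eq f qY φ
  have hge : d ≤ δ := by
    have h3 := pdim_eq_zero qY hy
    have h4 : WeilCoh.pdim X φ = δ' := by rw [hδ', hφy, h3, zero_add]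
    have h5 : (δ' : WithBot ℕ∞) ≤ (δ : WithBot ℕ∞) :=
      (le_fibreDimAt f (hφ x rfl) hφy h2').trans hx.2
    have h6 := Nat.cast_le.1 h5
    omega
  obtain rfl : δ = d := le_antisymm hle hge
  exact ⟨hδ.trans (add_comm _ _), h2⟩

include qX qY in
/-- A component containing a point of a closed fibre contains the fibre. -/
theorem fibre_subset (hf : f ≫ qY = qX) (h : Fibres f d) {ξ : X} (hξ : IsMaxPt ξ) {x : X} (hx : ξ ⤳ x)
    (hy : IsClosed ({f x} : Set Y)) {w : X} (hw : f w = f x) : ξ ⤳ w := by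
  obtain ⟨φ, hφy, hφd, hφ⟩ := fibre_generic qX h hy
  by_contra hcon
  have hlt : ∀ v : X, ξ ⤳ v → f v = f x → WeilCoh.pdim X v < d := fun v hv hv' => by
    rw [← hφd]
    refine pdim_strict qX (hφ v hv') fun e => hcon ?_
    exact hv.trans (e ▸ hφ w hw)
  have h0 := hlt x hx rfl
  have := comp_le qX qY hf hx (d - 1) d (comp_dim qX qY hf h hξ).2 fun v hv hv' => by
    have := hlt v hv hv'
    omega
  omega

include qX qY in
/-- Some component dominates. -/
theorem exists_dominant (hf : f ≫ qY = qX) (h : Fibres f d) [IrreducibleSpace Y] :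
    ∃ ξ : X, IsMaxPt ξ ∧ f ξ = genericPoint ↥Y := by
  haveI : JacobsonSpace Y := LocallyOfFiniteType.jacobsonSpace qY
  haveI := LocallyOfFiniteType.isLocallyNoetherian qY
  haveI : QuasiCompact qX := HasAffineProperty.iff_of_isAffine.2 ‹CompactSpace X›
  haveI : QuasiCompact (f ≫ qY) := hf ▸ inferInstance
  haveI : QuasiCompact f := QuasiCompact.of_comp f qY
  have hmax : IsMaxPt (genericPoint ↥Y) := fun z hz => (hz.antisymm (genericPoint_specializes z)).eq
  have hsub : closedPoints (Y : Type u) ⊆ Set.range f := fun y hy => by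
    obtain ⟨x, hx⟩ := (h y hy).1.nonempty
    exact ⟨x, hx⟩
  have hmem : genericPoint ↥Y ∈ closure (Set.range f) :=
    closure_mono hsub (by rw [closure_closedPoints]; trivial)
  obtain ⟨x, hx⟩ := mem_range_of_isMaxPt f hmax hmem
  obtain ⟨ξ, hξ, hξx⟩ := exists_isMaxPt_specializes x
  exact ⟨ξ, hξ, hmax _ (hx ▸ hξx.map f.continuous)⟩

include qX qY in
/-- Only one component dominates. -/
theorem dominant_unique (hf : f ≫ qY = qX) (h : Fibres f d) [IrreducibleSpace Y] {ξ ξ' : X}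
    (hξ : IsMaxPt ξ) (hξ' : IsMaxPt ξ') (he : f ξ = genericPoint ↥Y) (he' : f ξ' = genericPoint ↥Y) :
    ξ = ξ' := by
  haveI : JacobsonSpace X := LocallyOfFiniteType.jacobsonSpace qX
  haveI : JacobsonSpace Y := LocallyOfFiniteType.jacobsonSpace qY
  haveI := LocallyOfFiniteType.isLocallyNoetherian qY
  haveI := LocallyOfFiniteType.isLocallyNoetherian qX
  haveI : AlgebraicGeometry.IsNoetherian X := {}
  haveI : NoetherianSpace X := inferInstance
  haveI : QuasiCompact qX := HasAffineProperty.iff_of_isAffine.2 ‹CompactSpace X›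
  haveI : QuasiCompact (f ≫ qY) := hf ▸ inferInstance
  haveI : QuasiCompact f := QuasiCompact.of_comp f qY
  haveI : LocallyOfFiniteType (f ≫ qY) := hf ▸ inferInstance
  haveI : LocallyOfFiniteType f := locallyOfFiniteType_of_comp f qY
  haveI : LocallyOfFinitePresentation f := inferInstance
  obtain ⟨U, hU, hξU, huniq⟩ := exists_open_unique qX hξ
  obtain ⟨U', hU', hξU', huniq'⟩ := exists_open_unique qX hξ'
  have hnhd : ∀ V : Set X, IsOpen V → genericPoint ↥Y ∈ f '' V → f '' V ∈ nhds (genericPoint ↥Y) := fun V hV hm => by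
    refine mem_nhds_of_isLocallyConstructible (f.isLocallyConstructible_image ?_) fun y' hy' => ?_
    · exact (IsRetrocompact.isConstructible hV
        (fun W _ _ => NoetherianSpace.isCompact _)).isLocallyConstructible
    · rwa [(hy'.antisymm (genericPoint_specializes y')).eq]
  obtain ⟨O, hOsub, hO, hη⟩ := mem_nhds_iff.1
    (Filter.inter_mem (hnhd U hU ⟨ξ, hξU, he⟩) (hnhd U' hU' ⟨ξ', hξU', he'⟩))
  obtain ⟨y, hyO, hy⟩ := nonempty_inter_closedPoints (X := Y) ⟨_, hη⟩ hO.isLocallyClosed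
  obtain ⟨⟨x, hx, hxy⟩, ⟨x', hx', hxy'⟩⟩ := hOsub hyO
  obtain ⟨ζ, hζ, hζx⟩ := exists_isMaxPt_specializes x
  have hξx : ξ ⤳ x := huniq x hx ζ hζ hζx ▸ hζx
  exact huniq' x' hx' ξ hξ (fibre_subset qX qY hf h hξ hξx (hxy.symm ▸ hy) (hxy'.trans hxy.symm))

end Groth.Agent.FibIrr
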